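import Groth.Prelude.Def_W4c5grrsingularflatDSeq
import Groth.Agent.RegImmKindLib.CM
import Groth.Agent.SMTLib.CMQuot
import Groth.Agent.TCLib.Chain
import Mathlib

/-!
# Almost complete intersection primes in Cohen-Macaulay local rings are generated by d-sequences
-/

set_option autoImplicit false
set_option linter.style.haveILetI false

universe u

open IsLocalRing RingTheory.Sequence CommAlgDim

namespace DSeqPrimeLib

variable {T : Type u} [CommRing T]

theorem isSMulRegular_quot_iff (I : Ideal T) (r : T) :
    IsSMulRegular (T ⧸ (I • ⊤ : Submodule T T)) r ↔ ∀ x, x * r ∈ I → x ∈ I := by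
  have hI : (I • ⊤ : Submodule T T) = I := by rw [Ideal.smul_eq_mul, Ideal.mul_top]
  rw [isSMulRegular_iff_right_eq_zero_of_smul]
  refine ⟨fun h x hx => ?_, fun h y hy => ?_⟩
  · have := h (Submodule.Quotient.mk x) (by
      rw [← Submodule.Quotient.mk_smul, Submodule.Quotient.mk_eq_zero, hI, smul_eq_mul, mul_comm]; exact hx)
    rwa [Submodule.Quotient.mk_eq_zero, hI] at this
  · obtain ⟨x, rfl⟩ := Submodule.Quotient.mk_surjective _ y
    rw [← Submodule.Quotient.mk_smul, Submodule.Quotient.mk_eq_zero, hI, smul_eq_mul, mul_comm] at hy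
    rw [Submodule.Quotient.mk_eq_zero, hI]
    exact h x hy

theorem height_add_dim_quotient_le [IsLocalRing T] [IsNoetherianRing T] (Q : Ideal T) [Q.IsPrime] :
    (Q.height : WithBot ℕ∞) + ringKrullDim (T ⧸ Q) ≤ ringKrullDim T := by
  have h1 : ringKrullDim (T ⧸ Q) = Order.krullDim (Set.Ici (⟨Q, inferInstance⟩ : PrimeSpectrum T)) := by
    rw [ringKrullDim_quotient]
    rfl
  rw [h1, ← Order.coheight_eq_krullDim_Ici, PrimeSpectrum.height_eq_orderHeight ⟨Q, inferInstance⟩, ringKrullDim,
    Order.krullDim_eq_iSup_height_add_coheight_of_nonempty, ← WithBot.coe_add, WithBot.coe_le_coe]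
  exact le_iSup (fun x : PrimeSpectrum T => Order.height x + Order.coheight x) _

/-- Associated primes of the quotient by a regular sequence in a Cohen-Macaulay local ring have small height. -/
theorem height_le_of_mem_ass [IsLocalRing T] [IsNoetherianRing T] (hT : CommAlgDim.IsCM T) (rs : List T)
    (hm : ∀ r ∈ rs, r ∈ maximalIdeal T) (hreg : IsWeaklyRegular T rs) (Q : Ideal T)
    (hQ : Q ∈ associatedPrimes T (T ⧸ Ideal.ofList rs)) : Q.height ≤ rs.length := by
  haveI : Nontrivial (T ⧸ Ideal.ofList rs) := Ideal.Quotient.nontrivial_iff.2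
    (ne_top_of_le_ne_top (maximalIdeal.isMaximal T).ne_top (ofList_le_iff.2 hm))
  haveI : IsLocalRing (T ⧸ Ideal.ofList rs) := IsLocalRing.of_surjective' _ Ideal.Quotient.mk_surjective
  haveI := hQ.1
  have hle : Ideal.ofList rs ≤ Q := fun x hx => hQ.annihilator_le (by
    rw [Submodule.annihilator_top, Ideal.annihilator_quotient]; exact hx)
  obtain ⟨ls, hls, hd⟩ := RegImmKindLib.isCM_quotient_ofList _ T rs rfl hreg hm hT
  have hQ' : Q.map (Ideal.Quotient.mk (Ideal.ofList rs)) ∈
      associatedPrimes (T ⧸ Ideal.ofList rs) (T ⧸ Ideal.ofList rs) := by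
    obtain ⟨hp, f, hf⟩ := (isAssociatedPrime_iff_exists_injective_linearMap _ _).1 hQ
    refine (isAssociatedPrime_iff_exists_injective_linearMap _ _).2
      ⟨Ideal.map_isPrime_of_surjective Ideal.Quotient.mk_surjective (by rwa [Ideal.mk_ker]), ?_⟩
    let e : (T ⧸ Ideal.ofList rs) ⧸ Q.map (Ideal.Quotient.mk (Ideal.ofList rs)) ≃+* T ⧸ Q :=
      DoubleQuot.quotQuotEquivQuotOfLE hle
    refine ⟨{ toFun := fun y => f (e y), map_add' := fun a b => by simp, map_smul' := fun a b => ?_ },
      hf.comp e.injective⟩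
    obtain ⟨a, rfl⟩ := Ideal.Quotient.mk_surjective a
    show f (e (Ideal.Quotient.mk (Ideal.ofList rs) a • b)) = Ideal.Quotient.mk (Ideal.ofList rs) a • f (e b)
    have h1 : e (Ideal.Quotient.mk (Ideal.ofList rs) a • b) = a • e b := by
      obtain ⟨b, rfl⟩ := Ideal.Quotient.mk_surjective b
      obtain ⟨b, rfl⟩ := Ideal.Quotient.mk_surjective b
      rfl
    rw [h1, map_smul]
    rfl
  have h2 := CommAlgDim.length_le_ringKrullDim_of_mem_associatedPrimes ls (T ⧸ Ideal.ofList rs) hls _ hQ'
  rw [ringKrullDim_eq_of_ringEquiv (DoubleQuot.quotQuotEquivQuotOfLE hle)] at h2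
  have h3 := height_add_dim_quotient_le Q
  have h4 := ringKrullDim_add_length_eq_ringKrullDim_of_isRegular rs
    (IsRegular.of_isWeaklyRegular_of_mem_maximalIdeal T hm hreg)
  obtain ⟨d, hd'⟩ := exists_ringKrullDim_eq (R := T)
  obtain ⟨e', he⟩ : ∃ e' : ℕ, ringKrullDim (T ⧸ Q) = e' := by
    haveI := Ideal.Quotient.nontrivial_iff.2 hQ.1.ne_top
    exact exists_ringKrullDim_eq
  rw [hd] at h4
  rw [he] at h2 h3
  rw [hd'] at h3 h4
  generalize Q.height = c at h3 ⊢
  induction c with
  | top =>
    exact absurd ((le_add_of_nonneg_right (Nat.cast_nonneg' e')).trans h3) (not_le.2 (WithBot.coe_lt_coe.2 (ENat.coe_lt_top d)))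
  | coe c =>
    norm_cast at h2 h3 h4 ⊢
    omega

/-- Perturb generators of `p` modulo `p ^ 2` into a regular sequence. -/
theorem exists_regular_perturb [IsLocalRing T] [IsNoetherianRing T] (hT : CommAlgDim.IsCM T) (p : Ideal T) [hp : p.IsPrime]
    (g : List T) (hg : ∀ x ∈ g, x ∈ p) (hlen : (g.length : ℕ∞) ≤ p.height) :
    ∃ t : List T, t.length = g.length ∧ IsWeaklyRegular T t ∧ (∀ x ∈ t, x ∈ p) ∧
      ∀ (J : Ideal T), p ^ 2 ≤ J → (Ideal.ofList t ⊔ J = Ideal.ofList g ⊔ J) := by
  classical
  induction g using List.reverseRecOn with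
  | nil => exact ⟨[], rfl, IsWeaklyRegular.nil T T, by simp, fun _ _ => rfl⟩
  | append_singleton g a ih =>
    have hlt : (g.length : ℕ∞) < p.height := lt_of_lt_of_le (by rw [List.length_append, List.length_singleton, Nat.cast_lt]; exact Nat.lt_succ_self _) hlen
    obtain ⟨t, htl, htr, htp, hJ⟩ := ih (fun x hx => hg x (by simp [hx])) hlt.le
    have ha : a ∈ p := hg a (by simp)
    have htm : ∀ x ∈ t, x ∈ maximalIdeal T := fun x hx => IsLocalRing.le_maximalIdeal hp.ne_top (htp x hx)
    let S := (associatedPrimes.finite T (T ⧸ Ideal.ofList t)).toFinset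
    obtain ⟨z, hz, hzS⟩ := TCLib.exists_add_notMem a (p ^ 2) S
      (fun P hP => ((Set.Finite.mem_toFinset _).1 hP).1) (fun P hP _ hle => by
        have hP' := (Set.Finite.mem_toFinset _).1 hP
        haveI := hP'.1
        have h1 := height_le_of_mem_ass hT t htm htr P hP'
        rw [htl] at h1
        exact not_lt.2 ((Ideal.height_mono ((Ideal.IsPrime.pow_le_iff two_ne_zero).1 hle)).trans h1) hlt)
    refine ⟨t ++ [a + z], by simp [htl], ?_, ?_, fun J hJ' => ?_⟩
    · rw [isWeaklyRegular_append_iff]
      refine ⟨htr, ?_⟩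
      rw [isWeaklyRegular_cons_iff]
      refine ⟨(isSMulRegular_quot_iff _ _).2 fun x hx => ?_, IsWeaklyRegular.nil _ _⟩
      by_contra hxI
      have hne : (Ideal.Quotient.mk (Ideal.ofList t) x) ≠ 0 := fun h => hxI (Ideal.Quotient.eq_zero_iff_mem.1 h)
      obtain ⟨Q, hQ, hQle⟩ := exists_le_isAssociatedPrime_of_isNoetherianRing T _ hne
      refine hzS Q ((Set.Finite.mem_toFinset _).2 hQ) (hQle (Submodule.mem_colon_singleton.2 ?_))
      rw [Submodule.mem_bot]
      exact Ideal.Quotient.eq_zero_iff_mem.2 (by show (a + z) * x ∈ Ideal.ofList t; rwa [mul_comm])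
    · intro x hx
      rcases List.mem_append.1 hx with hx | hx
      · exact htp x hx
      · rw [List.mem_singleton] at hx
        exact hx ▸ add_mem ha (Ideal.pow_le_self two_ne_zero hz)
    · simp only [Ideal.ofList_append, Ideal.ofList_singleton]
      rw [sup_right_comm, hJ J hJ', sup_right_comm, sup_assoc, sup_assoc]
      congr 1
      refine le_antisymm (sup_le ?_ le_sup_right) (sup_le ?_ le_sup_right) <;>
        rw [Ideal.span_singleton_le_iff_mem]
      · exact add_mem (Ideal.mem_sup_left (Ideal.mem_span_singleton_self _)) (Ideal.mem_sup_right (hJ' hz))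
      · have h : a + z - z ∈ Ideal.span {a + z} ⊔ J :=
          sub_mem (Ideal.mem_sup_left (Ideal.mem_span_singleton_self _)) (Ideal.mem_sup_right (hJ' hz))
        simpa using h

/-- Generators split into `height` many that generate locally, and at most one more. -/
theorem exists_split [IsNoetherianRing T] (p : Ideal T) [p.IsPrime]
    [IsRegularLocalRing (Localization.AtPrime p)] (hgen : (Submodule.spanFinrank p : ℕ∞) ≤ p.height + 1) :
    ∃ (g ex : List T), (g.length : ℕ∞) = p.height ∧ ex.length ≤ 1 ∧ (g ++ ex).length = Submodule.spanFinrank p ∧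
      Ideal.ofList (g ++ ex) = p ∧
      (Ideal.ofList g).map (algebraMap T (Localization.AtPrime p)) = maximalIdeal (Localization.AtPrime p) := by
  classical
  let Tp := Localization.AtPrime p
  obtain ⟨s, hs, hspan⟩ := Submodule.FG.exists_span_finset_card_eq_spanFinrank (IsNoetherian.noetherian p)
  rw [Ideal.submodule_span_eq] at hspan
  have hmap : (Ideal.span (s : Set T)).map (algebraMap T Tp) = maximalIdeal Tp := by
    rw [hspan, Localization.AtPrime.map_eq_maximalIdeal]
  have hdim : ((maximalIdeal Tp).spanFinrank : WithBot ℕ∞) = (p.height : WithBot ℕ∞) := by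
    rw [IsRegularLocalRing.spanFinrank_maximalIdeal, IsLocalization.AtPrime.ringKrullDim_eq_height p Tp]
  have hh : ((maximalIdeal Tp).spanFinrank : ℕ∞) = p.height := by exact_mod_cast hdim
  rw [← hh] at hgen
  norm_cast at hgen
  have hlo : (maximalIdeal Tp).spanFinrank ≤ s.card := by
    rw [← hmap, Ideal.map_span]
    exact (Submodule.spanFinrank_span_le_ncard_of_finite (s.finite_toSet.image _)).trans
      ((Set.ncard_image_le s.finite_toSet).trans (Set.ncard_coe_finset s).le)
  have hlist : ∀ u : Finset T, Ideal.ofList u.toList = Ideal.span (u : Set T) :=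
    fun u => congrArg Ideal.span (by ext; simp)
  rcases eq_or_lt_of_le hlo with he | hlt
  · refine ⟨s.toList, [], by rw [← hh, he, Finset.length_toList], by simp, by simp [hs], ?_, ?_⟩
    · simp [hlist, hspan]
    · rw [hlist, hmap]
  have hcard : s.card = (maximalIdeal Tp).spanFinrank + 1 := by rw [hs] at hlt ⊢; omega
  let v : s → CotangentSpace Tp := fun x => (maximalIdeal Tp).toCotangent
    ⟨algebraMap T Tp x, hmap ▸ Ideal.mem_map_of_mem _ (Ideal.subset_span x.2)⟩
  have hnli : ¬ LinearIndependent (ResidueField Tp) v := fun hli => by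
    have := hli.fintype_card_le_finrank
    rw [Fintype.card_coe, ← IsLocalRing.spanFinrank_maximalIdeal_eq_finrank_cotangentSpace] at this
    omega
  rw [linearIndependent_iff_notMem_span] at hnli
  push Not at hnli
  obtain ⟨i, hi⟩ := hnli
  let m : Finset T := s.erase i
  have hm : (Ideal.span (m : Set T)).map (algebraMap T Tp) = maximalIdeal Tp := by
    have hsub : ∀ x : m, algebraMap T Tp x ∈ maximalIdeal Tp := fun x =>
      hmap ▸ Ideal.mem_map_of_mem _ (Ideal.subset_span (Finset.mem_of_mem_erase x.2))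
    let S' : Set (maximalIdeal Tp) := Set.range fun x : m => ⟨algebraMap T Tp x, hsub x⟩
    have hv : ∀ x : s, v x ∈ Submodule.span (ResidueField Tp) ((maximalIdeal Tp).toCotangent '' S') := fun x => by
      have hne : ∀ x : s, x ≠ i → v x ∈ Submodule.span (ResidueField Tp) ((maximalIdeal Tp).toCotangent '' S') :=
        fun x hx => Submodule.subset_span
          ⟨_, ⟨⟨x, Finset.mem_erase.2 ⟨fun h => hx (Subtype.ext h), x.2⟩⟩, rfl⟩, rfl⟩
      rcases eq_or_ne x i with rfl | hx
      · refine Submodule.span_le.2 ?_ hi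
        rintro _ ⟨y, hy, rfl⟩
        exact hne y (by simpa using hy)
      · exact hne x hx
    have hall : Submodule.span Tp (Set.range fun x : s => (⟨algebraMap T Tp x,
        hmap ▸ Ideal.mem_map_of_mem _ (Ideal.subset_span x.2)⟩ : maximalIdeal Tp)) = ⊤ := by
      refine Submodule.map_injective_of_injective (maximalIdeal Tp).injective_subtype ?_
      rw [Submodule.map_span, ← Set.range_comp, Submodule.map_top, Submodule.range_subtype]
      refine Eq.trans ?_ hmap
      refine Eq.trans ?_ (Ideal.map_span _ _).symm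
      refine congrArg (Submodule.span Tp) (Set.ext fun y => ?_)
      simp
    rw [← IsLocalRing.CotangentSpace.span_image_eq_top_iff] at hall
    have htop : Submodule.span (ResidueField Tp) ((maximalIdeal Tp).toCotangent '' S') = ⊤ := by
      rw [eq_top_iff, ← hall, Submodule.span_le]
      rintro _ ⟨_, ⟨x, rfl⟩, rfl⟩
      exact hv x
    rw [IsLocalRing.CotangentSpace.span_image_eq_top_iff] at htop
    have := congrArg (Submodule.map (maximalIdeal Tp).subtype) htop
    rw [Submodule.map_span, Submodule.map_top, Submodule.range_subtype, ← Set.range_comp] at this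
    refine Eq.trans ?_ this
    rw [Ideal.map_span]
    congr 1
    ext y
    simp
  have hins : insert (i : T) (m : Set T) = s := by
    rw [Finset.coe_erase, Set.insert_sdiff_singleton, Set.insert_eq_self.2 i.2]
  refine ⟨m.toList, [(i : T)], ?_, le_rfl, ?_, ?_, by rw [hlist, hm]⟩
  · rw [← hh, Finset.length_toList, Finset.card_erase_of_mem i.2, hcard, Nat.add_sub_cancel]
  · rw [List.length_append, Finset.length_toList, Finset.card_erase_of_mem i.2, List.length_singleton, ← hs]
    omega
  · rw [Ideal.ofList_append, hlist, Ideal.ofList_singleton, sup_comm, ← Ideal.span_union, Set.singleton_union, hins, hspan]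

theorem exists_isDSeq [LocCoh.IsCohenMacaulayLocalRing T] (p : Ideal T) [p.IsPrime]
    (hgen : (Submodule.spanFinrank p : ℕ∞) ≤ p.height + 1) [IsRegularLocalRing (Localization.AtPrime p)] :
    ∃ ts : List T, Ideal.ofList ts = p ∧ W4c5grrsingularflat.IsDSeq ts := by
  classical
  have hT := SMTLib.isCM_of_isCohenMacaulayLocalRing T
  obtain ⟨g, ex, hgl, hex, hlen, hp', hloc⟩ := exists_split p hgen
  have hgp : ∀ x ∈ g, x ∈ p := fun x hx => hp' ▸ Ideal.subset_span (show x ∈ g ++ ex by simp [hx])
  obtain ⟨t, htl, htr, htp, hJ⟩ := exists_regular_perturb hT p g hgp hgl.le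
  have hpm : p ≤ maximalIdeal T := IsLocalRing.le_maximalIdeal (Ideal.IsPrime.ne_top inferInstance)
  have hspan : Ideal.ofList (t ++ ex) = p := by
    refine le_antisymm (Ideal.span_le.2 fun x hx => ?_) ?_
    · rcases List.mem_append.1 hx with hx | hx
      · exact htp x hx
      · exact hp' ▸ Ideal.subset_span (show x ∈ g ++ ex by simp [hx])
    · refine Submodule.le_of_le_smul_of_le_jacobson_bot (I := p) (IsNoetherian.noetherian p)
        (hpm.trans (IsLocalRing.maximalIdeal_le_jacobson ⊥)) ?_
      have h1 := hJ (p ^ 2) le_rfl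
      rw [Ideal.smul_eq_mul, ← sq, Ideal.ofList_append, sup_right_comm, h1, sup_right_comm, ← Ideal.ofList_append, hp']
      exact le_sup_left
  have hlocal : (Ideal.ofList t).map (algebraMap T (Localization.AtPrime p)) = maximalIdeal (Localization.AtPrime p) := by
    refine le_antisymm ?_ ?_
    · rw [← Localization.AtPrime.map_eq_maximalIdeal]
      exact Ideal.map_mono (Ideal.span_le.2 htp)
    · refine Submodule.le_of_le_smul_of_le_jacobson_bot (I := maximalIdeal (Localization.AtPrime p))
        (IsNoetherian.noetherian _) (IsLocalRing.maximalIdeal_le_jacobson ⊥) ?_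
      rw [Ideal.smul_eq_mul, ← sq, ← Localization.AtPrime.map_eq_maximalIdeal, ← Ideal.map_pow, ← Ideal.map_sup,
        hJ (p ^ 2) le_rfl, Ideal.map_sup, hloc, Localization.AtPrime.map_eq_maximalIdeal]
      exact le_sup_left
  refine ⟨t ++ ex, hspan, fun i hi => ?_, fun i k hk hik => ?_⟩
  · let l := t ++ ex
    let S : Finset T := (Finset.univ.erase i).image fun j : Fin l.length => l[(j : Fin l.length)]
    have hle : Ideal.ofList l ≤ Ideal.span (S : Set T) := Ideal.span_le.2 fun x hx => by
      obtain ⟨j, hj, rfl⟩ := List.getElem_of_mem hx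
      rcases eq_or_ne (⟨j, hj⟩ : Fin l.length) i with rfl | hne
      · refine Ideal.span_le.2 ?_ hi
        rintro _ ⟨⟨j', hj'⟩, rfl⟩
        exact Ideal.subset_span (Finset.mem_image.2 ⟨j', Finset.mem_erase.2 ⟨hj', Finset.mem_univ _⟩, rfl⟩)
      · exact Ideal.subset_span (Finset.mem_image.2 ⟨⟨j, hj⟩, Finset.mem_erase.2 ⟨hne, Finset.mem_univ _⟩, rfl⟩)
    have heq : Ideal.span (S : Set T) = p := le_antisymm (hspan ▸ Ideal.span_le.2 fun x hx => by
      obtain ⟨j, -, rfl⟩ := Finset.mem_image.1 hx
      exact Ideal.subset_span (List.getElem_mem _)) (hspan.ge.trans hle)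
    have h1 : Submodule.spanFinrank p ≤ S.card := by
      rw [← heq, ← Set.ncard_coe_finset]
      exact Submodule.spanFinrank_span_le_ncard_of_finite S.finite_toSet
    have h2 : S.card ≤ l.length - 1 := Finset.card_image_le.trans (by simp)
    have h3 : l.length = Submodule.spanFinrank p := by rw [← hlen]; simp [l, htl]
    have := i.2
    change S.card ≤ (t ++ ex).length - 1 at h2
    change (t ++ ex).length = _ at h3
    omega
  ext x
  simp only [Submodule.mem_colon_singleton, smul_eq_mul]
  refine ⟨fun h => ?_, fun h => by rw [← mul_assoc]; exact Ideal.mul_mem_right _ _ h⟩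
  rcases lt_or_ge i t.length with hit | hit
  · have h1 := (isSMulRegular_quot_iff _ _).1 (htr.regular_mod_prev i hit) (x * (t ++ ex)[k]) (by
      rw [← List.getElem_append_left (bs := ex) hit, ← List.take_append_of_le_length (l₂ := ex) hit.le, mul_assoc]
      exact h)
    rwa [List.take_append_of_le_length hit.le]
  · simp only [List.length_append] at hk
    have hi' : i = t.length := by omega
    have hk' : k = i := by omega
    subst hk'
    subst hi'
    rw [List.take_append_of_le_length le_rfl, List.take_length] at h ⊢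
    set w := (t ++ ex)[t.length]'(by simpa using hk) with hw
    by_contra hxI
    have hne : (Ideal.Quotient.mk (Ideal.ofList t) (x * w)) ≠ 0 := fun h => hxI (Ideal.Quotient.eq_zero_iff_mem.1 h)
    obtain ⟨Q, hQ, hQle⟩ := exists_le_isAssociatedPrime_of_isNoetherianRing T _ hne
    haveI := hQ.1
    have hann : ∀ r : T, r * (x * w) ∈ Ideal.ofList t → r ∈ Q := fun r hr => hQle (Submodule.mem_colon_singleton.2 (by
      rw [Submodule.mem_bot]; exact Ideal.Quotient.eq_zero_iff_mem.2 hr))
    have hwQ : w ∈ Q := hann w (by convert h using 1; ring)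
    have hpQ : p ≤ Q := by
      rw [← hspan]
      refine Ideal.span_le.2 fun y hy => ?_
      rcases List.mem_append.1 hy with hy | hy
      · exact hann y (Ideal.mul_mem_right _ _ (Ideal.subset_span hy))
      · obtain ⟨a, ha⟩ := List.length_eq_one_iff.1 (show ex.length = 1 by omega)
        have : y = w := by subst ha; simp_all
        exact this ▸ hwQ
    have htm : ∀ y ∈ t, y ∈ maximalIdeal T := fun y hy => hpm (htp y hy)
    have hQh := height_le_of_mem_ass hT t htm htr Q hQ
    rw [htl, hgl] at hQh
    obtain rfl : p = Q := by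
      by_contra hne'
      exact not_lt.2 hQh (Ideal.height_strict_mono_of_isPrime (lt_of_le_of_ne hpQ hne'))
    have hwm : algebraMap T (Localization.AtPrime p) w ∈ (Ideal.ofList t).map (algebraMap T (Localization.AtPrime p)) := by
      rw [hlocal, ← Localization.AtPrime.map_eq_maximalIdeal]
      exact Ideal.mem_map_of_mem _ hwQ
    obtain ⟨s, hs, hsw⟩ := (IsLocalization.algebraMap_mem_map_algebraMap_iff p.primeCompl _ _ w).1 hwm
    exact hs (hann s (by rw [mul_left_comm]; exact Ideal.mul_mem_left _ _ hsw))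

end DSeqPrimeLib
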